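import Groth.Prelude.Def_FlatCA
import Mathlib.RingTheory.Ideal.MinimalPrime.Basic
import Mathlib.RingTheory.Ideal.Maximal
import Mathlib.Algebra.Module.LocalizedModule.Basic
import Mathlib.RingTheory.Localization.Ideal

/-! Elementwise criterion for weakly associated primes, and change of ring. -/

set_option autoImplicit false

universe u v

namespace Groth.Agent.WeakAssAlg

variable {R : Type u} [CommRing R]

theorem mem_minimalPrimes_iff {I p : Ideal R} [hp : p.IsPrime] :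
    p ∈ I.minimalPrimes ↔ I ≤ p ∧ ∀ x ∈ p, ∃ s ∉ p, ∃ n : ℕ, s * x ^ n ∈ I := by
  constructor
  · intro h
    refine ⟨h.1.2, fun x hx => ?_⟩
    by_contra! hno
    let S : Submonoid R := p.primeCompl ⊔ Submonoid.powers x
    have hdis : Disjoint (I : Set R) S := by
      rw [Set.disjoint_left]
      intro z hz hzS
      obtain ⟨t, ht, _, ⟨n, rfl⟩, rfl⟩ := Submonoid.mem_sup.1 hzS
      exact hno t ht n hz
    obtain ⟨q, hq, hIq, hqS⟩ := Ideal.exists_le_prime_disjoint I S hdis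
    have hqp : q ≤ p := fun z hz => by
      by_contra hzp
      exact Set.disjoint_left.1 hqS hz (Submonoid.mem_sup_left hzp)
    exact Set.disjoint_left.1 hqS (h.2 ⟨hq, hIq⟩ hqp hx) (Submonoid.mem_sup_right (Submonoid.mem_powers x))
  · rintro ⟨hIp, h⟩
    refine ⟨⟨hp, hIp⟩, fun q hq hqp x hx => ?_⟩
    obtain ⟨s, hs, n, hn⟩ := h x hx
    exact hq.1.mem_of_pow_mem n ((hq.1.mem_or_mem (hq.2 hn)).resolve_left fun hc => hs (hqp hc))

section
variable {M : Type v} [AddCommGroup M] [Module R M]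

/-- `p` is weakly associated, witnessed by `m`. -/
def IsWitness (p : Ideal R) (m : M) : Prop :=
  (∀ r : R, r • m = 0 → r ∈ p) ∧ ∀ x ∈ p, ∃ s ∉ p, ∃ n : ℕ, (s * x ^ n) • m = 0

theorem mem_minimalPrimes_ann_iff {p : Ideal R} [p.IsPrime] {m : M} :
    p ∈ (Submodule.span R {m}).annihilator.minimalPrimes ↔ IsWitness p m := by
  rw [mem_minimalPrimes_iff]
  refine and_congr ⟨fun h r hr => h ((Submodule.mem_annihilator_span_singleton m r).2 hr),
    fun h r hr => h r ((Submodule.mem_annihilator_span_singleton m r).1 hr)⟩ ?_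
  simp only [Submodule.mem_annihilator_span_singleton]

theorem mem_weakAss_iff {p : Ideal R} :
    p ∈ FlatCA.weakAss R M ↔ p.IsPrime ∧ ∃ m : M, IsWitness p m :=
  ⟨fun ⟨m, hm⟩ => haveI := hm.1.1; ⟨hm.1.1, m, mem_minimalPrimes_ann_iff.1 hm⟩,
    fun ⟨hp, m, hm⟩ => haveI := hp; ⟨m, mem_minimalPrimes_ann_iff.2 hm⟩⟩

theorem exists_witness {m : M} (hm : m ≠ 0) {f : R} (hf : f • m = 0) :
    ∃ p : Ideal R, p.IsPrime ∧ f ∈ p ∧ IsWitness p m := by
  have hne : (Submodule.span R {m}).annihilator ≠ ⊤ := by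
    rw [Ideal.ne_top_iff_one, Submodule.mem_annihilator_span_singleton, one_smul]
    exact hm
  obtain ⟨p, hp⟩ := Ideal.nonempty_minimalPrimes hne
  haveI := hp.1.1
  exact ⟨p, hp.1.1, hp.1.2 ((Submodule.mem_annihilator_span_singleton m f).2 hf),
    mem_minimalPrimes_ann_iff.1 hp⟩

theorem not_isSMulRegular_of_mem {p : Ideal R} {m : M} (h : IsWitness p m) {x : R} (hx : x ∈ p) :
    ¬ IsSMulRegular M x := by
  intro hreg
  obtain ⟨s, hs, n, hn⟩ := h.2 x hx
  rw [mul_comm, mul_smul] at hn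
  exact hs (h.1 s ((hreg.pow n).right_eq_zero_of_smul hn))

end

theorem transfer {A : Type u} [CommRing A] [Algebra R A] {N : Type v} [AddCommGroup N] [Module R N] [Module A N]
    [IsScalarTower R A N] (hA : ∀ a : A, ∃ (u : Aˣ) (r : R), a * u = algebraMap R A r)
    (q : Ideal A) [hq : q.IsPrime] :
    q ∈ FlatCA.weakAss A N ↔ q.comap (algebraMap R A) ∈ FlatCA.weakAss R N := by
  rw [mem_weakAss_iff, mem_weakAss_iff]
  simp only [hq, Ideal.IsPrime.comap (algebraMap R A) (K := q), true_and]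
  have hu : ∀ {u : Aˣ}, (u : A) ∉ q := fun {u} h => hq.ne_top (Ideal.eq_top_of_isUnit_mem _ h u.isUnit)
  refine exists_congr fun m => and_congr ⟨fun h r hr => h _ (by rwa [algebraMap_smul]), fun h a ha => ?_⟩
    ⟨fun h x hx => ?_, fun h a ha => ?_⟩
  · obtain ⟨u, r, hur⟩ := hA a
    have : r ∈ q.comap (algebraMap R A) := h r (by
      rw [← algebraMap_smul A, ← hur, mul_comm, mul_smul, ha, smul_zero])
    rw [Ideal.mem_comap, ← hur] at this
    exact (hq.mem_or_mem this).resolve_right hu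
  · obtain ⟨s, hs, n, hn⟩ := h (algebraMap R A x) hx
    obtain ⟨u, r, hur⟩ := hA s
    refine ⟨r, ?_, n, ?_⟩
    · rw [Ideal.mem_comap, ← hur]
      exact fun hc => (hq.mem_or_mem hc).elim hs hu
    · rw [← algebraMap_smul A, map_mul, map_pow, ← hur, mul_right_comm, mul_comm, mul_smul, hn, smul_zero]
  · obtain ⟨u, r, hur⟩ := hA a
    obtain ⟨s, hs, n, hn⟩ := h r (by rw [Ideal.mem_comap, ← hur]; exact q.mul_mem_right _ ha)
    refine ⟨algebraMap R A s * (u : A) ^ n,
      fun hc => (hq.mem_or_mem hc).elim hs fun hc => hu (hq.mem_of_pow_mem n hc), n, ?_⟩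
    rw [mul_assoc, ← mul_pow, mul_comm (u : A), hur, ← map_pow, ← map_mul, algebraMap_smul, hn]

theorem exists_unit_quotient (I : Ideal R) (a : R ⧸ I) :
    ∃ (u : (R ⧸ I)ˣ) (r : R), a * u = algebraMap R (R ⧸ I) r := by
  obtain ⟨r, rfl⟩ := Ideal.Quotient.mk_surjective a
  exact ⟨1, r, by rw [Units.val_one, mul_one]; rfl⟩

theorem exists_unit_loc (S : Submonoid R) (A : Type u) [CommRing A] [Algebra R A] [IsLocalization S A] (a : A) :
    ∃ (u : Aˣ) (r : R), a * u = algebraMap R A r := by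
  obtain ⟨⟨r, s⟩, h⟩ := IsLocalization.surj S a
  exact ⟨(IsLocalization.map_units A s).unit, r, h⟩

section
variable (S : Submonoid R) {M : Type v} [AddCommGroup M] [Module R M]

theorem smul_mk_eq_zero_iff (r : R) (m : M) (s : S) :
    r • LocalizedModule.mk m s = 0 ↔ ∃ t ∈ S, (t * r) • m = 0 := by
  rw [LocalizedModule.smul'_mk, ← LocalizedModule.zero_mk s, LocalizedModule.mk_eq]
  constructor
  · rintro ⟨u, hu⟩
    refine ⟨u.1 * s.1, S.mul_mem u.2 s.2, ?_⟩
    simpa [Submonoid.smul_def, mul_smul, smul_zero] using hu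
  · rintro ⟨t, ht, h⟩
    refine ⟨⟨t, ht⟩, ?_⟩
    simp only [Submonoid.smul_def, smul_zero]
    rw [smul_comm (s : R) r m, ← mul_smul, smul_comm (t * r) (s : R) m] at *
    simp_all

theorem disjoint_of_mem_loc {p : Ideal R} (h : p ∈ FlatCA.weakAss R (LocalizedModule S M)) :
    Disjoint (S : Set R) (p : Set R) := by
  obtain ⟨hp, z, hz⟩ := mem_weakAss_iff.1 h
  rw [Set.disjoint_left]
  intro s hs hsp
  refine not_isSMulRegular_of_mem hz hsp fun a b hab => ?_
  have hu := IsLocalizedModule.map_units (LocalizedModule.mkLinearMap S M) ⟨s, hs⟩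
  exact ((Module.End.isUnit_iff _).1 hu).1 hab

theorem loc_iff {p : Ideal R} [hp : p.IsPrime] (hd : Disjoint (S : Set R) (p : Set R)) :
    p ∈ FlatCA.weakAss R M ↔ p ∈ FlatCA.weakAss R (LocalizedModule S M) := by
  rw [mem_weakAss_iff, mem_weakAss_iff]
  simp only [hp, true_and]
  have hS : ∀ {t : R}, t ∈ S → t ∉ p := fun ht h => Set.disjoint_left.1 hd ht h
  constructor
  · rintro ⟨m, h1, h2⟩
    refine ⟨LocalizedModule.mk m 1, fun r hr => ?_, fun x hx => ?_⟩
    · obtain ⟨t, ht, h⟩ := (smul_mk_eq_zero_iff S r m 1).1 hr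
      exact (hp.mem_or_mem (h1 _ h)).resolve_left (hS ht)
    · obtain ⟨s, hs, n, hn⟩ := h2 x hx
      exact ⟨s, hs, n, (smul_mk_eq_zero_iff S _ m 1).2 ⟨1, S.one_mem, by rwa [one_mul]⟩⟩
  · rintro ⟨z, h1, h2⟩
    induction z using LocalizedModule.induction_on with
    | h m s =>
      refine ⟨m, fun r hr => h1 r ((smul_mk_eq_zero_iff S r m s).2 ⟨1, S.one_mem, by rwa [one_mul]⟩),
        fun x hx => ?_⟩
      obtain ⟨s', hs', n, hn⟩ := h2 x hx
      obtain ⟨t, ht, h⟩ := (smul_mk_eq_zero_iff S _ m s).1 hn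
      exact ⟨t * s', fun hc => (hp.mem_or_mem hc).elim (hS ht) hs', n, by rwa [mul_assoc]⟩

end

end Groth.Agent.WeakAssAlg
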